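import Cfsg.Agent.H209.IF.Defs

/-!
# S5719, ENG1 - ENG4: the fixed point formula (helper999)
-/

set_option autoImplicit false
set_option linter.unusedSectionVars false

namespace Cfsg.Agent.H999.IFB

open MulAction Subgroup Cfsg.Agent.H284 Cfsg.Agent.H209.Fxy

variable {T : Type*} [Group T] [Finite T] {A : Subgroup T} {Γ : Subgroup (MulAut T)}

/-- the class of `σ` under inner automorphisms -/
def icl (σ : MulAut T) : Set (MulAut T) := {τ | ∃ x : T, τ = MulAut.conj x * σ * (MulAut.conj x)⁻¹}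

/-- `conj(y)⁻¹ σ conj(y) = conj(y⁻¹ σ(y)) σ` -/
theorem conj_conj (σ : MulAut T) (y : T) :
    (MulAut.conj y)⁻¹ * σ * MulAut.conj y = MulAut.conj (y⁻¹ * σ y) * σ := by
  ext z
  simp only [MulAut.mul_apply, MulAut.conj_apply, map_mul, map_inv, mul_inv_rev, inv_inv, MulAut.conj_inv_apply,
    mul_assoc]

theorem mem_iff (h : IF A Γ) {σ : MulAut T} (hσ : σ ∈ Γ) (y : T) :
    y⁻¹ * σ y ∈ A ↔ (MulAut.conj y)⁻¹ * σ * MulAut.conj y ∈ Γ := by
  rw [conj_conj, ← h.conj]
  constructor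
  · intro h1
    exact Γ.mul_mem h1 hσ
  · intro h1
    have := Γ.mul_mem h1 (Γ.inv_mem hσ)
    rwa [mul_inv_cancel_right] at this

/-- the fibres of `y ↦ conj(y)⁻¹ σ conj(y)` -/
noncomputable def fibEquiv (σ : MulAut T) (X : Set (MulAut T)) (hX : X ⊆ icl σ) :
    {y : T // (MulAut.conj y)⁻¹ * σ * MulAut.conj y ∈ X} ≃
      X × {z : T // (MulAut.conj z)⁻¹ * σ * MulAut.conj z = σ} := by
  classical
  -- a chosen `r τ` with `conj(r)⁻¹ σ conj(r) = τ`
  have hr : ∀ τ : X, ∃ r : T, (MulAut.conj r)⁻¹ * σ * MulAut.conj r = τ := by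
    intro τ
    obtain ⟨x, hx⟩ := hX τ.2
    exact ⟨x⁻¹, by rw [map_inv, inv_inv, hx]⟩
  choose r hr using hr
  refine
    { toFun := fun y => (⟨_, y.2⟩, ⟨(y : T) * (r ⟨_, y.2⟩)⁻¹, ?_⟩)
      invFun := fun p => ⟨(p.2 : T) * r p.1, ?_⟩
      left_inv := ?_
      right_inv := ?_ }
  · have h1 := hr ⟨_, y.2⟩
    rw [map_mul, map_inv, mul_inv_rev, inv_inv]
    calc MulAut.conj (r ⟨_, y.2⟩) * (MulAut.conj (y : T))⁻¹ * σ * (MulAut.conj (y : T) * (MulAut.conj (r ⟨_, y.2⟩))⁻¹)
        = MulAut.conj (r ⟨_, y.2⟩) * ((MulAut.conj (y : T))⁻¹ * σ * MulAut.conj (y : T)) *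
          (MulAut.conj (r ⟨_, y.2⟩))⁻¹ := by group
      _ = MulAut.conj (r ⟨_, y.2⟩) * ((MulAut.conj (r ⟨_, y.2⟩))⁻¹ * σ * MulAut.conj (r ⟨_, y.2⟩)) *
          (MulAut.conj (r ⟨_, y.2⟩))⁻¹ := by rw [h1]
      _ = σ := by group
  · have h1 := hr p.1
    have h2 := p.2.2
    have h3 : (MulAut.conj ((p.2 : T) * r p.1))⁻¹ * σ * MulAut.conj ((p.2 : T) * r p.1) = p.1 := by
      rw [map_mul, mul_inv_rev]
      calc (MulAut.conj (r p.1))⁻¹ * (MulAut.conj (p.2 : T))⁻¹ * σ * (MulAut.conj (p.2 : T) * MulAut.conj (r p.1))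
          = (MulAut.conj (r p.1))⁻¹ * ((MulAut.conj (p.2 : T))⁻¹ * σ * MulAut.conj (p.2 : T)) * MulAut.conj (r p.1) := by
            group
        _ = p.1 := by rw [h2, h1]
    rw [h3]
    exact p.1.2
  · intro y
    apply Subtype.ext
    simp
  · intro p
    have h1 := hr p.1
    have h2 := p.2.2
    have h3 : (MulAut.conj ((p.2 : T) * r p.1))⁻¹ * σ * MulAut.conj ((p.2 : T) * r p.1) = p.1 := by
      rw [map_mul, mul_inv_rev]
      calc (MulAut.conj (r p.1))⁻¹ * (MulAut.conj (p.2 : T))⁻¹ * σ * (MulAut.conj (p.2 : T) * MulAut.conj (r p.1))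
          = (MulAut.conj (r p.1))⁻¹ * ((MulAut.conj (p.2 : T))⁻¹ * σ * MulAut.conj (p.2 : T)) * MulAut.conj (r p.1) := by
            group
        _ = p.1 := by rw [h2, h1]
    have h4 : (⟨(MulAut.conj ((p.2 : T) * r p.1))⁻¹ * σ * MulAut.conj ((p.2 : T) * r p.1), by
        rw [h3]; exact p.1.2⟩ : X) = p.1 := Subtype.ext h3
    refine Prod.ext h4 (Subtype.ext ?_)
    change (p.2 : T) * r p.1 * (r ⟨_, _⟩)⁻¹ = p.2
    rw [h4, mul_inv_cancel_right]

theorem card_fib (σ : MulAut T) (X : Set (MulAut T)) (hX : X ⊆ icl σ) :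
    Nat.card {y : T // (MulAut.conj y)⁻¹ * σ * MulAut.conj y ∈ X} =
      X.ncard * Nat.card {z : T // (MulAut.conj z)⁻¹ * σ * MulAut.conj z = σ} := by
  rw [Nat.card_congr (fibEquiv σ X hX), Nat.card_prod]
  rfl

theorem card_T (σ : MulAut T) :
    Nat.card T = (icl σ).ncard * Nat.card {z : T // (MulAut.conj z)⁻¹ * σ * MulAut.conj z = σ} := by
  rw [← card_fib σ (icl σ) (le_refl _)]
  refine (Nat.card_congr (Equiv.subtypeUnivEquiv fun y => ?_)).symm
  exact ⟨y⁻¹, by rw [map_inv, inv_inv]⟩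

/-- ENG2, first part -/
theorem IF.fix_formula' (h : IF A Γ) {σ : MulAut T} (hσ : σ ∈ Γ) :
    fx A σ * (icl σ).ncard = A.index * (icl σ ∩ (Γ : Set (MulAut T))).ncard := by
  have h1 : Nat.card A * fx A σ = (icl σ ∩ (Γ : Set (MulAut T))).ncard *
      Nat.card {z : T // (MulAut.conj z)⁻¹ * σ * MulAut.conj z = σ} := by
    rw [← card_fib σ _ Set.inter_subset_left]
    have h2 : Nat.card A * fx A σ = Nat.card (A × fixSet A σ) := by
      rw [Nat.card_prod]
      rfl
    rw [h2, ← Nat.card_congr (QuotientGroup.preimageMkEquivSubgroupProdSet A (fixSet A σ))]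
    refine Nat.card_congr (Equiv.subtypeEquivRight fun y => ?_)
    constructor
    · rintro ⟨z, hz, hz'⟩
      rw [QuotientGroup.eq] at hz
      have h3 : y⁻¹ * σ y ∈ A := by
        have h4 : y⁻¹ * σ y = (z⁻¹ * y)⁻¹ * (z⁻¹ * σ z) * σ (z⁻¹ * y) := by
          rw [map_mul, map_inv]
          group
        rw [h4]
        exact A.mul_mem (A.mul_mem (A.inv_mem hz) hz') ((h.inv σ hσ _).2 hz)
      exact ⟨⟨y⁻¹, by rw [map_inv, inv_inv]⟩, (mem_iff h hσ y).1 h3⟩
    · rintro ⟨-, hy⟩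
      exact ⟨y, rfl, (mem_iff h hσ y).2 hy⟩
  have h2 := card_T σ
  have h3 := A.card_mul_index
  have h4 : 0 < Nat.card A := Nat.card_pos
  apply Nat.eq_of_mul_eq_mul_left h4
  calc Nat.card A * (fx A σ * (icl σ).ncard) = (Nat.card A * fx A σ) * (icl σ).ncard := by ring
    _ = (icl σ ∩ (Γ : Set (MulAut T))).ncard * ((icl σ).ncard *
        Nat.card {z : T // (MulAut.conj z)⁻¹ * σ * MulAut.conj z = σ}) := by rw [h1]; ring
    _ = (icl σ ∩ (Γ : Set (MulAut T))).ncard * (Nat.card A * A.index) := by rw [← h2, h3]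
    _ = Nat.card A * (A.index * (icl σ ∩ (Γ : Set (MulAut T))).ncard) := by ring

theorem center_of [IsSimpleGroup T] (hna : ∃ a b : T, a * b ≠ b * a) {z : T} (hz : ∀ x, z * x = x * z) : z = 1 := by
  have h1 : (Subgroup.center T) = ⊥ ∨ (Subgroup.center T) = ⊤ := (inferInstance : (Subgroup.center T).Normal).eq_bot_or_eq_top
  rcases h1 with h1 | h1
  · have : z ∈ Subgroup.center T := Subgroup.mem_center_iff.2 fun x => (hz x).symm
    rwa [h1, Subgroup.mem_bot] at this
  · obtain ⟨a, b, hab⟩ := hna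
    exfalso
    apply hab
    have : b ∈ Subgroup.center T := by rw [h1]; trivial
    exact Subgroup.mem_center_iff.1 this a

/-- `|σ^T| = |T : C_T(σ)|` if `Z(T) = 1` -/
theorem card_icl [IsSimpleGroup T] (hna : ∃ a b : T, a * b ≠ b * a) (σ : MulAut T) :
    (icl σ).ncard * Nat.card {x : T // σ x = x} = Nat.card T := by
  rw [card_T σ]
  congr 1
  refine Nat.card_congr (Equiv.subtypeEquivRight fun z => ?_)
  rw [conj_conj]
  constructor
  · intro hz
    rw [hz, inv_mul_cancel, map_one, one_mul]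
  · intro hz
    have h1 : MulAut.conj (z⁻¹ * σ z) = 1 := by
      have := congrArg (fun τ => τ * σ⁻¹) hz
      simpa [mul_assoc] using this
    have h2 : z⁻¹ * σ z = 1 := by
      apply center_of hna
      intro x
      have h3 := congrArg (fun τ : MulAut T => τ x) h1
      simp only [MulAut.conj_apply, MulAut.one_apply] at h3
      rw [mul_inv_eq_iff_eq_mul] at h3
      exact h3
    exact (inv_mul_eq_one.1 h2).symm

/-- ENG2. The fixed point formula, for any `σ ∈ Γ`: `f(σ) |σ^T| = n |σ^T ∩ Γ|`, `|σ^T| = |T : C_T(σ)|`. -/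
theorem IF.fix_formula [IsSimpleGroup T] (hna : ∃ a b : T, a * b ≠ b * a) (h : IF A Γ) {σ : MulAut T} (hσ : σ ∈ Γ) :
    fx A σ * (icl σ).ncard = A.index * (icl σ ∩ (Γ : Set (MulAut T))).ncard ∧
    (icl σ).ncard * Nat.card {x : T // σ x = x} = Nat.card T :=
  ⟨IF.fix_formula' h hσ, card_icl hna σ⟩

theorem fx_pos (A : Subgroup T) (σ : MulAut T) : 0 < fx A σ := by
  have : (fixSet A σ).Nonempty := ⟨((1 : T) : T ⧸ A), 1, rfl, by rw [map_one, inv_one, mul_one]; exact A.one_mem⟩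
  exact (Set.ncard_pos (Set.toFinite _)).2 this

theorem one_le (h : IF A Γ) {σ : MulAut T} (hσ : σ ∈ Γ) : A.index ≤ fx A σ * (icl σ).ncard := by
  rw [IF.fix_formula' h hσ]
  have h1 : 0 < (icl σ ∩ (Γ : Set (MulAut T))).ncard :=
    (Set.ncard_pos (Set.toFinite _)).2 ⟨σ, ⟨1, by simp⟩, hσ⟩
  exact Nat.le_mul_of_pos_right _ h1

/-- ENG3. `f^5 < |σ^T|`, `n^5 < |σ^T|^6`, for `σ ∈ Γ` of order 2. -/
theorem IF.E2 (h : IF A Γ) {σ : MulAut T} (hσ : σ ∈ Γ) (h2 : orderOf σ = 2) :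
    fx A σ ^ 5 < (icl σ).ncard ∧ A.index ^ 5 < (icl σ).ncard ^ 6 := by
  have h1 := one_le h hσ
  have h3 := h.small σ hσ h2
  have h4 := fx_pos A σ
  have h5 : 0 < A.index := by have := h.big; omega
  constructor
  · have h6 : fx A σ * fx A σ ^ 5 < fx A σ * (icl σ).ncard := by
      calc fx A σ * fx A σ ^ 5 = fx A σ ^ 6 := by ring
        _ < A.index := h3
        _ ≤ _ := h1
    exact lt_of_mul_lt_mul_left h6 (Nat.zero_le _)
  · have hpos : 0 < (icl σ).ncard := by
      rcases Nat.eq_zero_or_pos (icl σ).ncard with h6 | h6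
      · rw [h6, mul_zero] at h1
        omega
      · exact h6
    have h6 : A.index * A.index ^ 5 < A.index * (icl σ).ncard ^ 6 := by
      calc A.index * A.index ^ 5 = A.index ^ 6 := by ring
        _ ≤ (fx A σ * (icl σ).ncard) ^ 6 := Nat.pow_le_pow_left h1 6
        _ = fx A σ ^ 6 * (icl σ).ncard ^ 6 := by ring
        _ < A.index * (icl σ).ncard ^ 6 := Nat.mul_lt_mul_of_pos_right h3 (pow_pos hpos 6)
    exact lt_of_mul_lt_mul_left h6 (Nat.zero_le _)

/-- ENG1. A subgroup `B` centralised by `σ` acts on the fixed points of `σ`. -/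
theorem IF.E1 (h : IF A Γ) {σ : MulAut T} (hσ : σ ∈ Γ) (h2 : orderOf σ = 2) {B : Subgroup T}
    (hB : ∀ b ∈ B, σ b = b) : A.relIndex B ≤ fx A σ ∧ A.relIndex B ^ 6 < A.index := by
  have h1 : A.relIndex B ≤ fx A σ := by
    rw [Subgroup.relIndex, Subgroup.index]
    let φ : (B ⧸ A.subgroupOf B) → fixSet A σ := fun c =>
      ⟨Quotient.liftOn' c (fun b : B => ((b : T) : T ⧸ A)) (by
        intro b b' hbb
        rw [QuotientGroup.leftRel_apply] at hbb
        exact QuotientGroup.eq.2 hbb), by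
        induction c using QuotientGroup.induction_on with
        | H b => exact ⟨b, rfl, by rw [hB b b.2, inv_mul_cancel]; exact A.one_mem⟩⟩
    have hφ : Function.Injective φ := by
      intro c c' hcc
      induction c using QuotientGroup.induction_on with
      | H b =>
        induction c' using QuotientGroup.induction_on with
        | H b' =>
          have h3 : ((b : T) : T ⧸ A) = ((b' : T) : T ⧸ A) := congrArg Subtype.val hcc
          rw [QuotientGroup.eq] at h3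
          exact QuotientGroup.eq.2 h3
    exact Nat.card_le_card_of_injective φ hφ
  exact ⟨h1, lt_of_le_of_lt (Nat.pow_le_pow_left h1 6) (h.small σ hσ h2)⟩

theorem orderOf_conj [IsSimpleGroup T] (hna : ∃ a b : T, a * b ≠ b * a) (t : T) :
    orderOf (MulAut.conj t) = orderOf t := by
  refine orderOf_injective (MulAut.conj : T →* MulAut T) ?_ t
  rw [injective_iff_map_eq_one]
  intro z hz
  apply center_of hna
  intro x
  have h3 := congrArg (fun τ : MulAut T => τ x) hz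
  simp only [MulAut.conj_apply, MulAut.one_apply] at h3
  rwa [mul_inv_eq_iff_eq_mul] at h3

/-- ENG4. For `t ∈ A` of order 2 in terms of `T`: `|t^T| = (centralizer {t}).index`. -/
theorem IF.E2' [IsSimpleGroup T] (h : IF A Γ) (hna : ∃ a b : T, a * b ≠ b * a) {t : T} (ht : t ∈ A)
    (h2 : orderOf t = 2) :
    orderOf (MulAut.conj t) = 2 ∧ (icl (MulAut.conj t)).ncard = (centralizer ({t} : Set T)).index ∧
    fx A (MulAut.conj t) ^ 5 < (centralizer ({t} : Set T)).index ∧
    A.index ^ 5 < (centralizer ({t} : Set T)).index ^ 6 ∧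
    (∀ B : Subgroup T, B ≤ centralizer ({t} : Set T) →
      A.relIndex B ^ 5 < (centralizer ({t} : Set T)).index ∧ A.relIndex B ^ 6 < A.index) := by
  have hσ : MulAut.conj t ∈ Γ := (h.conj t).2 ht
  have ho : orderOf (MulAut.conj t) = 2 := by rw [orderOf_conj hna, h2]
  have hc : (icl (MulAut.conj t)).ncard = (centralizer ({t} : Set T)).index := by
    have h3 := card_icl hna (MulAut.conj t)
    have h4 := (centralizer ({t} : Set T)).index_mul_card
    have h5 : Nat.card {x : T // MulAut.conj t x = x} = Nat.card (centralizer ({t} : Set T)) := by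
      refine Nat.card_congr (Equiv.subtypeEquivRight fun x => ?_)
      rw [Subgroup.mem_centralizer_singleton_iff, MulAut.conj_apply, mul_inv_eq_iff_eq_mul, eq_comm]
    rw [h5, ← h4] at h3
    exact Nat.eq_of_mul_eq_mul_right Nat.card_pos h3
  obtain ⟨h3, h4⟩ := IF.E2 h hσ ho
  rw [hc] at h3 h4
  refine ⟨ho, hc, h3, h4, fun B hB => ?_⟩
  obtain ⟨h5, h6⟩ := IF.E1 h hσ ho (B := B) (fun b hb => by
    have := Subgroup.mem_centralizer_singleton_iff.1 (hB hb)
    rw [MulAut.conj_apply, mul_inv_eq_iff_eq_mul]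
    exact this.symm)
  exact ⟨lt_of_le_of_lt (Nat.pow_le_pow_left h5 5) h3, h6⟩

end Cfsg.Agent.H999.IFB
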